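import Mathlib.NumberTheory.Padics.Hensel
import Mathlib.Algebra.Polynomial.SpecificDegree
import Mathlib.Analysis.Complex.Norm

/-!
# The Weil polynomial `x² - p x + p^r`
-/

set_option autoImplicit false

namespace Groth.Agent.Lib.Helper24.WeilQuad

open Polynomial

theorem pos_real (p r : ℕ) (hp : 2 ≤ p) (hr : 2 < r) (x : ℝ) :
    0 < x ^ 2 - (p : ℝ) * x + (p : ℝ) ^ r := by
  have hp' : (2 : ℝ) ≤ p := by exact_mod_cast hp
  have h1 : (p : ℝ) ^ 3 ≤ (p : ℝ) ^ r := pow_le_pow_right₀ (by linarith) (by omega)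
  have h2 : (p : ℝ) ^ 2 < (p : ℝ) ^ 3 := by nlinarith
  nlinarith [sq_nonneg (x - p / 2), sq_nonneg (p : ℝ)]

theorem part1 (p r : ℕ) (hp : 2 ≤ p) (hr : 2 < r) :
    Irreducible (X ^ 2 - C (p : ℚ) * X + C ((p : ℚ) ^ r) : ℚ[X]) := by
  have hdeg : (X ^ 2 - C (p : ℚ) * X + C ((p : ℚ) ^ r) : ℚ[X]).natDegree = 2 := by
    have h1 : (X ^ 2 - C (p : ℚ) * X + C ((p : ℚ) ^ r) : ℚ[X]) =
        C (1 : ℚ) * X ^ 2 + C (-(p : ℚ)) * X + C ((p : ℚ) ^ r) := by
      simp only [map_one, one_mul, map_neg, neg_mul]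
      ring
    rw [h1]
    exact natDegree_quadratic one_ne_zero
  apply irreducible_of_degree_le_three_of_not_isRoot
  · rw [hdeg]; decide
  · intro x hx
    rw [IsRoot.def] at hx
    simp only [eval_add, eval_sub, eval_pow, eval_X, eval_mul, eval_C] at hx
    have h1 := pos_real p r hp hr (x : ℝ)
    have h2 : ((x ^ 2 - (p : ℚ) * x + (p : ℚ) ^ r : ℚ) : ℝ) = 0 := by rw [hx]; simp
    push_cast at h2
    linarith

theorem part2 (p r : ℕ) (hp : 2 ≤ p) (hr : 2 < r) (π : ℂ)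
    (hπ : π ^ 2 - (p : ℂ) * π + (p : ℂ) ^ r = 0) : ‖π‖ = Real.sqrt ((p : ℝ) ^ r) := by
  have hq : ((p : ℂ) ^ r) = (((p : ℝ) ^ r : ℝ) : ℂ) := by push_cast; rfl
  have hpc : (p : ℂ) = ((p : ℝ) : ℂ) := by push_cast; rfl
  rw [hq, hpc] at hπ
  have hre := congrArg Complex.re hπ
  have him := congrArg Complex.im hπ
  simp only [Complex.add_re, Complex.sub_re, Complex.mul_re, Complex.ofReal_re, Complex.ofReal_im,
    Complex.zero_re, pow_two, zero_mul, sub_zero] at hre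
  simp only [Complex.add_im, Complex.sub_im, Complex.mul_im, Complex.ofReal_re, Complex.ofReal_im,
    Complex.zero_im, pow_two, zero_mul, add_zero] at him
  -- him : π.re * π.im + π.im * π.re - p * π.im = 0
  have hb : π.im ≠ 0 := by
    intro hb
    rw [hb] at hre
    have := pos_real p r hp hr π.re
    nlinarith
  have ha : 2 * π.re = p := by
    have : π.im * (2 * π.re - p) = 0 := by linarith
    rcases mul_eq_zero.mp this with h | h
    · exact absurd h hb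
    · linarith
  rw [Complex.norm_eq_sqrt_sq_add_sq]
  congr 1
  nlinarith

theorem part3 (p r : ℕ) [Fact p.Prime] (hr : 2 < r) :
    ∃ a b : ℚ_[p], a ≠ b ∧ a ^ 2 - (p : ℚ_[p]) * a + (p : ℚ_[p]) ^ r = 0 ∧
        b ^ 2 - (p : ℚ_[p]) * b + (p : ℚ_[p]) ^ r = 0 ∧ a.valuation = 1 ∧
        b.valuation = (r : ℤ) - 1 := by
  let F : Polynomial ℤ_[p] := X ^ 2 - X + C ((p : ℤ_[p]) ^ (r - 2))
  have hF1 : F.aeval (1 : ℤ_[p]) = (p : ℤ_[p]) ^ (r - 2) := by simp [F]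
  have hF'1 : F.derivative.aeval (1 : ℤ_[p]) = 1 := by
    have hd : derivative F = C (2 : ℤ_[p]) * X - 1 := by
      show derivative (X ^ 2 - X + C ((p : ℤ_[p]) ^ (r - 2))) = _
      rw [derivative_add, derivative_sub, derivative_X_pow, derivative_X, derivative_C]
      simp
    rw [hd]
    simp
    norm_num
  have hnorm : ‖F.aeval (1 : ℤ_[p])‖ < ‖F.derivative.aeval (1 : ℤ_[p])‖ ^ 2 := by
    rw [hF1, hF'1, norm_one, one_pow, PadicInt.norm_lt_one_iff_dvd]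
    exact dvd_pow_self _ (by omega)
  obtain ⟨z, hz, hz1, -, -⟩ := hensels_lemma hnorm
  rw [hF'1, norm_one] at hz1
  have hz' : z ^ 2 - z + (p : ℤ_[p]) ^ (r - 2) = 0 := by simpa [F] using hz
  have hznorm : ‖z‖ = 1 := by
    have h1 : ‖z + (-1)‖ < ‖(-1 : ℤ_[p])‖ := by
      rw [norm_neg, norm_one, ← sub_eq_add_neg]; exact hz1
    rw [PadicInt.norm_eq_of_norm_add_lt_right h1, norm_neg, norm_one]
  set Z : ℚ_[p] := (z : ℚ_[p]) with hZ
  have hZeq : Z ^ 2 - Z + (p : ℚ_[p]) ^ (r - 2) = 0 := by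
    have := congrArg (fun w : ℤ_[p] => (w : ℚ_[p])) hz'
    simpa using this
  have hZnorm : ‖Z‖ = 1 := by rw [hZ, ← PadicInt.norm_def]; exact hznorm
  have hZ0 : Z ≠ 0 := by
    intro h0; rw [h0, norm_zero] at hZnorm; exact zero_ne_one hZnorm
  have hp1 : (1 : ℝ) < p := by exact_mod_cast (Fact.out : p.Prime).one_lt
  have hZval : Z.valuation = 0 := by
    have h1 := Padic.norm_eq_zpow_neg_valuation hZ0
    rw [hZnorm] at h1
    have h2 := (zpow_eq_one_iff_right₀ (by linarith : (0 : ℝ) ≤ p) hp1.ne').1 h1.symm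
    omega
  have hp0 : (p : ℚ_[p]) ≠ 0 := by
    exact_mod_cast (Fact.out : p.Prime).ne_zero
  have hprod : Z * (1 - Z) = (p : ℚ_[p]) ^ (r - 2) := by linear_combination (-1 : ℚ_[p]) * hZeq
  have h1Z0 : 1 - Z ≠ 0 := by
    intro h0
    rw [h0, mul_zero] at hprod
    exact pow_ne_zero _ hp0 hprod.symm
  have h1Zval : (1 - Z).valuation = (r : ℤ) - 2 := by
    have h1 := congrArg Padic.valuation hprod
    rw [Padic.valuation_mul hZ0 h1Z0, hZval, zero_add, Padic.valuation_pow, Padic.valuation_p,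
      mul_one] at h1
    rw [h1]
    omega
  have hr2 : r = (r - 2) + 2 := by omega
  refine ⟨p * Z, p * (1 - Z), ?_, ?_, ?_, ?_, ?_⟩
  · intro hab
    have h1 := congrArg Padic.valuation hab
    rw [Padic.valuation_mul hp0 hZ0, Padic.valuation_mul hp0 h1Z0, hZval, h1Zval,
      Padic.valuation_p] at h1
    omega
  · have : (p : ℚ_[p]) ^ r = (p : ℚ_[p]) ^ (r - 2) * (p : ℚ_[p]) ^ 2 := by
      rw [← pow_add, ← hr2]
    rw [this]
    linear_combination (p : ℚ_[p]) ^ 2 * hZeq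
  · have : (p : ℚ_[p]) ^ r = (p : ℚ_[p]) ^ (r - 2) * (p : ℚ_[p]) ^ 2 := by
      rw [← pow_add, ← hr2]
    rw [this]
    linear_combination (p : ℚ_[p]) ^ 2 * hZeq
  · rw [Padic.valuation_mul hp0 hZ0, hZval, Padic.valuation_p, add_zero]
  · rw [Padic.valuation_mul hp0 h1Z0, h1Zval, Padic.valuation_p]
    ring

theorem main (p r : ℕ) [Fact p.Prime] (hr : 2 < r) :
    Irreducible (X ^ 2 - C (p : ℚ) * X + C ((p : ℚ) ^ r) : ℚ[X]) ∧
      (∀ π : ℂ, π ^ 2 - (p : ℂ) * π + (p : ℂ) ^ r = 0 → ‖π‖ = Real.sqrt ((p : ℝ) ^ r)) ∧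
      ∃ a b : ℚ_[p], a ≠ b ∧ a ^ 2 - (p : ℚ_[p]) * a + (p : ℚ_[p]) ^ r = 0 ∧
        b ^ 2 - (p : ℚ_[p]) * b + (p : ℚ_[p]) ^ r = 0 ∧ a.valuation = 1 ∧
        b.valuation = (r : ℤ) - 1 :=
  ⟨part1 p r (Fact.out : p.Prime).two_le hr, part2 p r (Fact.out : p.Prime).two_le hr,
    part3 p r hr⟩

end Groth.Agent.Lib.Helper24.WeilQuad
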